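/-
helper53 library (S2279): the concrete matrices.  `J = Jmat (m+4)` (upper Jordan block), `Jinv` its inverse,
`a k = J⁻ᵏ e_last`, `α k = e₀ Jᵏ`, `τ = 1 + c E_{last,0}` and `v = τ J τ⁻¹`.
-/
import Mathlib
import Cfsg.Agent.Lib.Helper39.RankOne
import Cfsg.Agent.Lib.Helper39.JordanMat

set_option autoImplicit false
set_option linter.unusedSectionVars false

namespace Cfsg.Agent.Lib.Helper53.TwoReg

open Matrix Cfsg.Agent.Lib.Helper39.RankOne Cfsg.Agent.Lib.Helper39.JordanMat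

variable {F : Type*} [Field F]

/-- the inverse of the Jordan block: entries `(-1)^(j-i)` for `i ≤ j` -/
def Jinv (n : ℕ) : Matrix (Fin n) (Fin n) F :=
  Matrix.of fun i j => if i.val ≤ j.val then (-1) ^ (j.val - i.val) else 0

variable (m : ℕ)

def eLast : Fin (m + 4) → F := Pi.single (Fin.last (m + 3)) 1
def eZero : Fin (m + 4) → F := Pi.single 0 1

/-- `a k = J⁻ᵏ e_last` -/
def avec (k : ℕ) : Fin (m + 4) → F :=
  (Jinv (m + 4) : Matrix (Fin (m + 4)) (Fin (m + 4)) F) ^ k *ᵥ eLast m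

/-- `α k = e₀ Jᵏ` -/
def acov (k : ℕ) : Fin (m + 4) → F :=
  eZero m ᵥ* (Jmat (m + 4) : Matrix (Fin (m + 4)) (Fin (m + 4)) F) ^ k

/-- the corner root element `1 + c E_{last,0}` -/
def tauMat (c : F) : Matrix (Fin (m + 4)) (Fin (m + 4)) F := tv (c • eLast m) (eZero m)

/-- the second generator `τ J τ⁻¹` -/
def vMat (c : F) : Matrix (Fin (m + 4)) (Fin (m + 4)) F := tauMat m c * Jmat (m + 4) * tauMat m (-c)

end Cfsg.Agent.Lib.Helper53.TwoReg
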