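/-
helper53 library (S2279, module MATS-1): the inverse of the Jordan block and the entries of its powers.
-/
import Mathlib
import Cfsg.Agent.Lib.Helper39.RankOne
import Cfsg.Agent.Lib.Helper39.JordanMat
import Cfsg.Agent.Lib.Helper53.TwoReg.Defs

set_option autoImplicit false
set_option linter.unusedSectionVars false

namespace Cfsg.Agent.Lib.Helper53.TwoReg

open Matrix Cfsg.Agent.Lib.Helper39.RankOne Cfsg.Agent.Lib.Helper39.JordanMat

variable {F : Type*} [Field F]

theorem Jinv_apply (n : ℕ) (i j : Fin n) :
    (Jinv n : Matrix (Fin n) (Fin n) F) i j = if i.val ≤ j.val then (-1) ^ (j.val - i.val) else 0 := rfl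

theorem Jmat_mul_Jinv (n : ℕ) : (Jmat n : Matrix (Fin n) (Fin n) F) * Jinv n = 1 := by
  ext i j
  have hJ : (Jmat n : Matrix (Fin n) (Fin n) F) = 1 + Nmat n := rfl
  rw [hJ, add_mul, one_mul, Matrix.add_apply, Matrix.mul_apply]
  simp only [Nmat_apply, Jinv_apply]
  by_cases hi : i.val + 1 < n
  · rw [Finset.sum_eq_single (⟨i.val + 1, hi⟩ : Fin n)]
    · simp only [if_true, one_mul]
      by_cases hij : i = j
      · subst hij
        simp
      · rw [Matrix.one_apply_ne hij]
        by_cases hlt : i.val ≤ j.val
        · have hlt' : i.val + 1 ≤ j.val := by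
            have : i.val ≠ j.val := fun h => hij (Fin.ext h)
            omega
          rw [if_pos hlt, if_pos hlt']
          have : j.val - i.val = (j.val - (i.val + 1)) + 1 := by omega
          rw [this, pow_succ]; ring
        · rw [if_neg hlt, if_neg (by omega)]; ring
    · intro b _ hb
      have : ¬ b.val = i.val + 1 := fun h => hb (Fin.ext h)
      simp [this]
    · intro h; exact absurd (Finset.mem_univ _) h
  · have hz : ∑ x : Fin n, (if x.val = i.val + 1 then (1 : F) else 0) *
        (if x.val ≤ j.val then (-1) ^ (j.val - x.val) else 0) = 0 := by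
      apply Finset.sum_eq_zero
      intro b _
      have : ¬ b.val = i.val + 1 := by have := b.isLt; omega
      simp [this]
    rw [hz, add_zero]
    by_cases hij : i = j
    · subst hij; simp
    · rw [Matrix.one_apply_ne hij, if_neg]
      have : i.val ≠ j.val := fun h => hij (Fin.ext h)
      have := j.isLt
      omega

theorem Jinv_mul_Jmat (n : ℕ) : (Jinv n : Matrix (Fin n) (Fin n) F) * Jmat n = 1 :=
  mul_eq_one_comm.mp (Jmat_mul_Jinv n)

theorem Jmat_pow_apply (n k : ℕ) (i j : Fin n) :
    ((Jmat n : Matrix (Fin n) (Fin n) F) ^ k) i j =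
      if i.val ≤ j.val then ((k.choose (j.val - i.val) : ℕ) : F) else 0 := by
  have hJ : (Jmat n : Matrix (Fin n) (Fin n) F) = Nmat n + 1 := by unfold Jmat; rw [add_comm]
  rw [hJ, (Commute.one_right (Nmat n : Matrix (Fin n) (Fin n) F)).add_pow, Matrix.sum_apply]
  simp only [one_pow, mul_one]
  have hterm : ∀ t : ℕ, ((Nmat n : Matrix (Fin n) (Fin n) F) ^ t * ((k.choose t : ℕ) : Matrix (Fin n) (Fin n) F)) i j
      = if j.val = i.val + t then ((k.choose t : ℕ) : F) else 0 := by
    intro t
    rw [← nsmul_eq_mul', Matrix.smul_apply, Nmat_pow_apply, nsmul_eq_mul]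
    split_ifs <;> simp
  simp only [hterm]
  by_cases hij : i.val ≤ j.val
  · rw [if_pos hij]
    by_cases hk : j.val - i.val ≤ k
    · rw [Finset.sum_eq_single (j.val - i.val)]
      · rw [if_pos (by omega)]
      · intro b _ hb
        rw [if_neg (by omega)]
      · intro h
        exact absurd (Finset.mem_range.mpr (by omega)) h
    · rw [Nat.choose_eq_zero_of_lt (by omega), Nat.cast_zero]
      apply Finset.sum_eq_zero
      intro b hb
      have := Finset.mem_range.mp hb
      rw [if_neg (by omega)]
  · rw [if_neg hij]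
    apply Finset.sum_eq_zero
    intro b _
    rw [if_neg (by omega)]

end Cfsg.Agent.Lib.Helper53.TwoReg
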