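/-
helper53 library (S2279): abstract configuration for the group generated by the Jordan block `J` and its
conjugate by the corner root element `x_{n-1,0}(c)`.  Vectors `a k = J⁻ᵏ e_last`, covectors `α k = e₀ Jᵏ`.
-/
import Mathlib
import Cfsg.Agent.Lib.Helper39.RankOne

set_option autoImplicit false
set_option linter.unusedSectionVars false

namespace Cfsg.Agent.Lib.Helper53.TwoReg

open Matrix Cfsg.Agent.Lib.Helper39.RankOne

/-- the abstract configuration -/
structure Cfg (F : Type*) [Field F] (N : ℕ) where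
  a : ℕ → Fin N → F
  α : ℕ → Fin N → F
  ε : F
  c : F
  H : Subgroup (SpecialLinearGroup (Fin N) F)
  hε : ε * ε = 1
  gram : ∀ j k, k ≤ j → α j ⬝ᵥ a k = ((j - k).choose (N - 1) : F)
  gram1 : ∀ j, α j ⬝ᵥ a (j + 1) = ε
  shift : ∀ j m (s : F), InH H (tv (s • a j) (α m)) ↔ InH H (tv (s • a (j + 1)) (α (m + 1)))
  hd : ∀ m, InH H (tv (c • a (m + 1)) (α (m + 1)) * tv (-(c • a m)) (α m))

namespace Cfg

variable {F : Type*} [Field F] {N : ℕ} (C : Cfg F N)

theorem gram0 {j k : ℕ} (hkj : k ≤ j) (hj : j + 2 ≤ k + N) : C.α j ⬝ᵥ C.a k = 0 := by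
  rw [C.gram j k hkj, Nat.choose_eq_zero_of_lt (by omega), Nat.cast_zero]

theorem gram0' {j k : ℕ} (hkj : k ≤ j) (hj : j + 2 ≤ k + N) (s : F) : C.α j ⬝ᵥ (s • C.a k) = 0 := by
  rw [dotProduct_smul, C.gram0 hkj hj, smul_zero]

theorem shift_iter (j m : ℕ) (s : F) (k : ℕ) :
    InH C.H (tv (s • C.a j) (C.α m)) ↔ InH C.H (tv (s • C.a (j + k)) (C.α (m + k))) := by
  induction k with
  | zero => rfl
  | succ k ih => rw [ih, C.shift]; rfl

/-- narrowing (commutator of two transvections of the configuration) -/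
theorem narrow {j m k l : ℕ} (hjm : j ≤ m) (hm : m + 2 ≤ j + N) (hkl : k ≤ l) (hl : l + 2 ≤ k + N)
    (hkm : k ≤ m) (hmk : m + 2 ≤ k + N) (hjl : j ≤ l) (s s' : F)
    (h1 : InH C.H (tv (s • C.a j) (C.α m))) (h2 : InH C.H (tv (s' • C.a k) (C.α l))) :
    InH C.H (tv ((-(s * s' * ((l - j).choose (N - 1) : F))) • C.a k) (C.α m)) := by
  have := InH.comm (C.gram0' hjm hm s) (C.gram0' hkl hl s') (C.gram0' hkm hmk s') h1 h2
  rw [dotProduct_smul, C.gram l j hjl, smul_smul] at this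
  convert this using 3
  rw [smul_eq_mul]; ring

/-- the parameter groups `R w = {s | 1 + s a₀ α_wᵀ ∈ H}` (only meaningful for `w + 2 ≤ N`; `⊤` otherwise) -/
def R (w : ℕ) : AddSubgroup F where
  carrier := {s | w + 2 ≤ N → InH C.H (tv (s • C.a 0) (C.α w))}
  add_mem' := by
    intro s s' hs hs' hw
    have h0 : C.α w ⬝ᵥ (s' • C.a 0) = 0 := C.gram0' (Nat.zero_le _) (by omega) s'
    have := (hs hw).mul (hs' hw)
    rwa [tv_mul_tv _ _ _ h0, ← add_smul] at this
  zero_mem' := by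
    intro _
    rw [zero_smul, tv_zero]; exact InH.one _
  neg_mem' := by
    intro s hs hw
    have h0 : C.α w ⬝ᵥ (s • C.a 0) = 0 := C.gram0' (Nat.zero_le _) (by omega) s
    have := (hs hw).tv_neg h0
    rwa [← neg_smul] at this

theorem mem_R {w : ℕ} (hw : w + 2 ≤ N) (s : F) : s ∈ C.R w ↔ InH C.H (tv (s • C.a 0) (C.α w)) :=
  ⟨fun h => h hw, fun h _ => h⟩

end Cfg

end Cfsg.Agent.Lib.Helper53.TwoReg
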