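/-
helper53 library (S2279): the algebra of the parameter groups `R w` (assembly of the modules ALG-K, ALG-NT, ALG-FIN).
-/
import Mathlib
import Cfsg.Agent.Lib.Helper39.FieldGen
import Cfsg.Agent.Lib.Helper34.TwoRegAlgNT
import Cfsg.Agent.Lib.Helper45.TwoRegAlgFin
import Cfsg.Agent.Lib.Helper54.TwoRegAlgK

set_option autoImplicit false
set_option linter.unusedSectionVars false

namespace Cfsg.Agent.Lib.Helper53.TwoReg

open Cfsg.Agent.Lib.Helper39.FieldGen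

variable {F : Type*} [Field F] [Fintype F]

theorem alg_main (n : ℕ) (hn : 4 ≤ n) (c : F) (hc : c ≠ 0)
    (hgen : ∀ y : F, y ≠ 0 → ∃ j : ℕ, y = c ^ j) (R : ℕ → AddSubgroup F)
    (h3 : c ^ 3 ∈ R 2)
    (hW : ∀ w, w + 3 ≤ n → ∀ s ∈ R w, c * s ∈ R (w + 1))
    (hNar : ∀ w1 w2 w3, w1 + 2 ≤ n → w2 + 2 ≤ n → w3 ≤ w1 → n - 1 ≤ w1 + w2 - w3 →
      ∀ s ∈ R w1, ∀ s' ∈ R w2, s * s' * ((w1 + w2 - w3).choose (n - 1) : F) ∈ R w3) :
    ∀ w, w + 2 ≤ n → ∀ s : F, s ∈ R w := by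
  obtain ⟨h1, h2, h3'⟩ := Cfsg.Agent.Lib.Helper54.TwoReg.alg_K n hn c hc R h3 hW hNar
  have hcK : c ∈ stabSubfield (R (n - 2)) :=
    Cfsg.Agent.Lib.Helper34.TwoReg.gen_mem_of_binom _ n hn c hc hgen h2 h3'
  have hall : ∀ y : F, y ∈ stabSubfield (R (n - 2)) := by
    intro y
    by_cases hy : y = 0
    · subst hy; exact Subfield.zero_mem _
    · obtain ⟨j, rfl⟩ := hgen y hy
      exact Subfield.pow_mem _ hcK j
  exact Cfsg.Agent.Lib.Helper45.TwoReg.alg_fin n hn R hNar (fun s => (h1 s).mpr (hall _))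

end Cfsg.Agent.Lib.Helper53.TwoReg
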