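/-
helper53 library (S2279): in an abstract configuration all root groups `T_{0,w}(F)` lie in `H`
(assembly of PARTB (as a hypothesis here), WIDEN, narrow and the algebra).
-/
import Mathlib
import Cfsg.Agent.Lib.Helper39.RankOne
import Cfsg.Agent.Lib.Helper53.TwoReg.Cfg
import Cfsg.Agent.Lib.Helper53.TwoReg.Alg
import Cfsg.Agent.Lib.Helper45.TwoRegWiden

set_option autoImplicit false
set_option linter.unusedSectionVars false

namespace Cfsg.Agent.Lib.Helper53.TwoReg

open Matrix Cfsg.Agent.Lib.Helper39.RankOne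

namespace Cfg

variable {F : Type*} [Field F] [Fintype F] {N : ℕ} (C : Cfg F N)

/-- all root groups `T_{0,w}(F)` lie in `H` -/
theorem all_mem_of (hN : 4 ≤ N) (hc : C.c ≠ 0) (hgen : ∀ y : F, y ≠ 0 → ∃ j : ℕ, y = C.c ^ j)
    (hB : InH C.H (tv ((-(C.c ^ 3)) • C.a 0) (C.α 2)))
    (w : ℕ) (hw : w + 2 ≤ N) (s : F) : InH C.H (tv (s • C.a 0) (C.α w)) := by
  rw [← C.mem_R hw]
  refine alg_main N hN C.c hc hgen C.R ?_ ?_ ?_ w hw s
  · -- part B
    have : -(C.c ^ 3) ∈ C.R 2 := (C.mem_R (by omega) _).mpr hB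
    simpa using (C.R 2).neg_mem this
  · -- widening
    intro w hw s hs
    have h := Cfsg.Agent.Lib.Helper45.TwoReg.widen C (Nat.zero_le w) (by omega) s
      ((C.mem_R (by omega) s).mp hs)
    have h' : -(C.ε * C.c * s) ∈ C.R (w + 1) := (C.mem_R (by omega) _).mpr h
    have hε : C.ε = 1 ∨ C.ε = -1 := by
      have : (C.ε - 1) * (C.ε + 1) = 0 := by linear_combination C.hε
      rcases mul_eq_zero.mp this with h | h
      · left; linear_combination h
      · right; linear_combination h
    rcases hε with h1 | h1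
    · rw [h1, one_mul] at h'
      simpa using (C.R (w + 1)).neg_mem h'
    · rw [h1] at h'
      simpa using h'
  · -- narrowing
    intro w1 w2 w3 h1 h2 h31 hμ s hs s' hs'
    have e1 := (C.mem_R h1 s).mp hs
    have e2 := (C.mem_R h2 s').mp hs'
    have e2' := (C.shift_iter 0 w2 s' (w1 - w3)).mp e2
    rw [zero_add] at e2'
    have hn := C.narrow (j := 0) (m := w1) (k := w1 - w3) (l := w2 + (w1 - w3)) (Nat.zero_le _)
      (by omega) (by omega) (by omega) (by omega) (by omega) (Nat.zero_le _) s s' e1 e2'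
    have e3 : w1 = w3 + (w1 - w3) := by omega
    have hn' : InH C.H (tv ((-(s * s' * ((w2 + (w1 - w3) - 0).choose (N - 1) : F))) • C.a (0 + (w1 - w3)))
        (C.α (w3 + (w1 - w3)))) := by
      rw [zero_add, ← e3]; exact hn
    have hn'' := (C.shift_iter 0 w3 _ (w1 - w3)).mpr hn'
    have e4 : w2 + (w1 - w3) - 0 = w1 + w2 - w3 := by omega
    rw [e4] at hn''
    have := (C.mem_R (by omega) _).mpr hn''
    simpa using (C.R w3).neg_mem this

end Cfg

end Cfsg.Agent.Lib.Helper53.TwoReg
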