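/-
helper53 library (S2279): a subgroup of `SL_{m+4}(F)` (`F` finite, `c` a generator of `Fˣ`) containing the Jordan
block `J` and `τ J τ⁻¹`, `τ = 1 + c E_{last,0}`, contains all root groups `1 + s a₀ α_wᵀ`.
The endgame (module END) is a hypothesis of `eq_top_of_J_v_of`.
-/
import Mathlib
import Cfsg.Agent.Lib.Helper39.RankOne
import Cfsg.Agent.Lib.Helper39.JordanMat
import Cfsg.Agent.Lib.Helper53.TwoReg.Cfg
import Cfsg.Agent.Lib.Helper53.TwoReg.Defs
import Cfsg.Agent.Lib.Helper53.TwoReg.All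
import Cfsg.Agent.Lib.Helper45.TwoRegPartB
import Cfsg.Agent.Lib.Helper54.TwoRegMats2

set_option autoImplicit false
set_option linter.unusedSectionVars false

namespace Cfsg.Agent.Lib.Helper53.TwoReg

open Matrix Cfsg.Agent.Lib.Helper39.RankOne Cfsg.Agent.Lib.Helper39.JordanMat

variable {F : Type*} [Field F] (m : ℕ)

/-- the configuration attached to a subgroup containing `J` and `τ J τ⁻¹` -/
def mkCfg (H : Subgroup (SpecialLinearGroup (Fin (m + 4)) F))
    (hJ : InH H (Jmat (m + 4) : Matrix (Fin (m + 4)) (Fin (m + 4)) F)) (c : F) (hv : InH H (vMat m c)) :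
    Cfg F (m + 4) where
  a := avec m
  α := acov m
  ε := (-1) ^ (m + 3)
  c := c
  H := H
  hε := by rw [← mul_pow]; simp
  gram := Cfsg.Agent.Lib.Helper54.TwoReg.gram m
  gram1 := Cfsg.Agent.Lib.Helper54.TwoReg.gram1 m
  shift := Cfsg.Agent.Lib.Helper54.TwoReg.shift m H hJ
  hd := Cfsg.Agent.Lib.Helper54.TwoReg.hd m H hJ c hv

/-- all root groups `1 + s a₀ α_wᵀ` lie in a subgroup containing `J` and `τ J τ⁻¹` -/
theorem all_mem_of_J_v [Fintype F] (c : F) (hc : c ≠ 0) (hgen : ∀ y : F, y ≠ 0 → ∃ j : ℕ, y = c ^ j)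
    (H : Subgroup (SpecialLinearGroup (Fin (m + 4)) F))
    (hJ : InH H (Jmat (m + 4) : Matrix (Fin (m + 4)) (Fin (m + 4)) F)) (hv : InH H (vMat m c))
    (w : ℕ) (hw : w + 2 ≤ m + 4) (s : F) : InH H (tv (s • avec m 0) (acov m w)) :=
  (mkCfg m H hJ c hv).all_mem_of (by omega) hc hgen
    (Cfsg.Agent.Lib.Helper45.TwoReg.partB (mkCfg m H hJ c hv) (by omega)) w hw s

end Cfsg.Agent.Lib.Helper53.TwoReg
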