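import Mathlib
import Cfsg.Agent.Lib.Helper39.RankOne
import Cfsg.Agent.Lib.Helper39.JordanMat
import Cfsg.Agent.Lib.Helper53.TwoReg.Defs

set_option autoImplicit false
set_option linter.unusedSectionVars false

namespace Cfsg.Agent.Lib.Helper53.TwoReg

open Matrix Cfsg.Agent.Lib.Helper39.RankOne Cfsg.Agent.Lib.Helper39.JordanMat

variable {F : Type*} [Field F] (m : ℕ)

theorem eZero_dot_eLast : (eZero m : Fin (m + 4) → F) ⬝ᵥ eLast m = 0 := by
  unfold eZero eLast
  rw [single_dotProduct, one_mul, Pi.single_eq_of_ne]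
  intro h
  have := congrArg Fin.val h
  simp at this

theorem tauMat_mul_neg (c : F) : tauMat m c * tauMat m (-c) = 1 := by
  unfold tauMat
  rw [neg_smul]
  exact tv_mul_tv_neg _ _ (by rw [dotProduct_smul, eZero_dot_eLast, smul_zero])

theorem tauMat_eq_transvection (c : F) :
    tauMat m c = Matrix.transvection (Fin.last (m + 3)) (0 : Fin (m + 4)) c := by
  unfold tauMat eLast eZero Matrix.transvection
  rw [one_add_single_eq_tv]
  congr 1
  ext i
  simp [Pi.single_apply]

theorem det_tauMat (c : F) : (tauMat m c).det = 1 := by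
  rw [tauMat_eq_transvection]
  apply Matrix.det_transvection_of_ne
  intro h
  have := congrArg Fin.val h
  simp at this

theorem Jmat_sub_one : (Jmat (m + 4) : Matrix (Fin (m + 4)) (Fin (m + 4)) F) - 1 = Nmat (m + 4) := by
  unfold Jmat; rw [add_sub_cancel_left]

theorem vMat_sub_one (c : F) :
    vMat m c - 1 = tauMat m c * Nmat (m + 4) * tauMat m (-c) := by
  unfold vMat
  have : (Jmat (m + 4) : Matrix (Fin (m + 4)) (Fin (m + 4)) F) = 1 + Nmat (m + 4) := rfl
  rw [this, mul_add, add_mul, mul_one, tauMat_mul_neg, add_sub_cancel_left]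

theorem conj_pow (c : F) (M : Matrix (Fin (m + 4)) (Fin (m + 4)) F) (k : ℕ) :
    (tauMat m c * M * tauMat m (-c)) ^ k = tauMat m c * M ^ k * tauMat m (-c) := by
  have h1 : tauMat m (-c) * tauMat m c = 1 := by
    have := tauMat_mul_neg m (-c)
    rwa [neg_neg] at this
  induction k with
  | zero => rw [pow_zero, pow_zero, mul_one, tauMat_mul_neg]
  | succ k ih =>
    rw [pow_succ, ih, pow_succ]
    calc tauMat m c * M ^ k * tauMat m (-c) * (tauMat m c * M * tauMat m (-c))
        = tauMat m c * M ^ k * (tauMat m (-c) * tauMat m c) * M * tauMat m (-c) := by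
          simp only [Matrix.mul_assoc]
      _ = tauMat m c * (M ^ k * M) * tauMat m (-c) := by
          rw [h1, mul_one]; simp only [Matrix.mul_assoc]

theorem vMat_regular (c : F) :
    IsNilpotent (vMat m c - 1) ∧ (vMat m c - 1) ^ (m + 4 - 1) ≠ 0 := by
  rw [vMat_sub_one]
  constructor
  · refine ⟨m + 4, ?_⟩
    rw [conj_pow, Nmat_pow_self, mul_zero, zero_mul]
  · rw [conj_pow]
    intro h
    have h1 : tauMat m (-c) * tauMat m c = 1 := by
      have := tauMat_mul_neg m (-c)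
      rwa [neg_neg] at this
    have h2 : (Nmat (m + 4) : Matrix (Fin (m + 4)) (Fin (m + 4)) F) ^ (m + 4 - 1) =
        tauMat m (-c) * (tauMat m c * Nmat (m + 4) ^ (m + 4 - 1) * tauMat m (-c)) * tauMat m c := by
      calc (Nmat (m + 4) : Matrix (Fin (m + 4)) (Fin (m + 4)) F) ^ (m + 4 - 1)
          = (tauMat m (-c) * tauMat m c) * Nmat (m + 4) ^ (m + 4 - 1) * (tauMat m (-c) * tauMat m c) := by
            rw [h1, one_mul, mul_one]
        _ = _ := by simp only [Matrix.mul_assoc]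
    rw [h, mul_zero, zero_mul] at h2
    exact Nmat_pow_pred_ne_zero (by omega) h2

theorem Jmat_regular :
    IsNilpotent ((Jmat (m + 4) : Matrix (Fin (m + 4)) (Fin (m + 4)) F) - 1) ∧
      ((Jmat (m + 4) : Matrix (Fin (m + 4)) (Fin (m + 4)) F) - 1) ^ (m + 4 - 1) ≠ 0 := by
  rw [Jmat_sub_one]
  exact ⟨⟨m + 4, Nmat_pow_self⟩, Nmat_pow_pred_ne_zero (by omega)⟩


/-- packaging: if every subgroup containing `J` and `τ J τ⁻¹` is everything, we get the two conjugate generators -/
theorem exists_two_conj_reg_unip_of [Fintype F]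
    (hmain : ∀ (c : F), c ≠ 0 → (∀ y : F, y ≠ 0 → ∃ j : ℕ, y = c ^ j) →
      ∀ H : Subgroup (SpecialLinearGroup (Fin (m + 4)) F),
        InH H (Jmat (m + 4) : Matrix (Fin (m + 4)) (Fin (m + 4)) F) → InH H (vMat m c) → H = ⊤) :
    ∃ u g : SpecialLinearGroup (Fin (m + 4)) F,
      (IsNilpotent ((u : Matrix (Fin (m + 4)) (Fin (m + 4)) F) - 1) ∧
        ((u : Matrix (Fin (m + 4)) (Fin (m + 4)) F) - 1) ^ (m + 4 - 1) ≠ 0) ∧
      (IsNilpotent (((g * u * g⁻¹ : SpecialLinearGroup (Fin (m + 4)) F) :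
          Matrix (Fin (m + 4)) (Fin (m + 4)) F) - 1) ∧
        (((g * u * g⁻¹ : SpecialLinearGroup (Fin (m + 4)) F) :
          Matrix (Fin (m + 4)) (Fin (m + 4)) F) - 1) ^ (m + 4 - 1) ≠ 0) ∧
      Subgroup.closure ({u, g * u * g⁻¹} : Set (SpecialLinearGroup (Fin (m + 4)) F)) = ⊤ := by
  classical
  obtain ⟨ζu, hζu⟩ := IsCyclic.exists_monoid_generator (α := Fˣ)
  set c : F := (ζu : F) with hc
  have hc0 : c ≠ 0 := ζu.ne_zero
  have hgen : ∀ y : F, y ≠ 0 → ∃ j : ℕ, y = c ^ j := by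
    intro y hy
    obtain ⟨k, hk⟩ := (Submonoid.mem_powers_iff _ _).mp (hζu (Units.mk0 y hy))
    refine ⟨k, ?_⟩
    rw [hc, ← Units.val_pow_eq_pow_val, hk]
    rfl
  set U : SpecialLinearGroup (Fin (m + 4)) F := ⟨Jmat (m + 4), det_Jmat⟩ with hU
  set G : SpecialLinearGroup (Fin (m + 4)) F := ⟨tauMat m c, det_tauMat m c⟩ with hG
  have hcoe : ((G * U * G⁻¹ : SpecialLinearGroup (Fin (m + 4)) F) :
      Matrix (Fin (m + 4)) (Fin (m + 4)) F) = vMat m c := by
    have hgg : (G : Matrix (Fin (m + 4)) (Fin (m + 4)) F) *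
        ((G⁻¹ : SpecialLinearGroup (Fin (m + 4)) F) : Matrix (Fin (m + 4)) (Fin (m + 4)) F) = 1 := by
      show ((G * G⁻¹ : SpecialLinearGroup (Fin (m + 4)) F) : Matrix (Fin (m + 4)) (Fin (m + 4)) F) = 1
      rw [mul_inv_cancel]; rfl
    have hinv : ((G⁻¹ : SpecialLinearGroup (Fin (m + 4)) F) : Matrix (Fin (m + 4)) (Fin (m + 4)) F)
        = tauMat m (-c) := by
      have h1 : tauMat m (-c) * tauMat m c = 1 := by
        have := tauMat_mul_neg m (-c)
        rwa [neg_neg] at this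
      calc ((G⁻¹ : SpecialLinearGroup (Fin (m + 4)) F) : Matrix (Fin (m + 4)) (Fin (m + 4)) F)
          = (tauMat m (-c) * tauMat m c) *
            ((G⁻¹ : SpecialLinearGroup (Fin (m + 4)) F) : Matrix (Fin (m + 4)) (Fin (m + 4)) F) := by
            rw [h1, one_mul]
        _ = tauMat m (-c) * ((G : Matrix (Fin (m + 4)) (Fin (m + 4)) F) *
            ((G⁻¹ : SpecialLinearGroup (Fin (m + 4)) F) : Matrix (Fin (m + 4)) (Fin (m + 4)) F)) := by
            rw [Matrix.mul_assoc]
        _ = tauMat m (-c) := by rw [hgg, mul_one]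
    show (G : Matrix (Fin (m + 4)) (Fin (m + 4)) F) * (U : Matrix (Fin (m + 4)) (Fin (m + 4)) F) *
      ((G⁻¹ : SpecialLinearGroup (Fin (m + 4)) F) : Matrix (Fin (m + 4)) (Fin (m + 4)) F) = vMat m c
    rw [hinv]; rfl
  refine ⟨U, G, Jmat_regular m, ?_, ?_⟩
  · rw [hcoe]; exact vMat_regular m c
  · set H := Subgroup.closure ({U, G * U * G⁻¹} : Set (SpecialLinearGroup (Fin (m + 4)) F)) with hH
    apply hmain c hc0 hgen H
    · exact InH.of_mem (g := U) (Subgroup.subset_closure (by simp))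
    · rw [← hcoe]
      exact InH.of_mem (Subgroup.subset_closure (by simp))

end Cfsg.Agent.Lib.Helper53.TwoReg
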